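import Mathlib
import Groth.Agent.Lib.Helper24.RedFib.Sch

/-!
# Nilpotents of a chart map into the ideal of the fibre when the fibre is reduced at a point
-/

set_option autoImplicit false
universe u
open CategoryTheory CategoryTheory.Limits AlgebraicGeometry Opposite TensorProduct

namespace Groth.Agent.Lib.Helper24.FlatDvr

open Groth.Agent.Lib.Helper24.RedFib

theorem mem_map_ker_of_includeLeft_eq_zero {R S κ : Type*} [CommRing R] [CommRing S] [CommRing κ]
    [Algebra R S] [Algebra R κ] (hsurj : Function.Surjective (algebraMap R κ)) (z : S)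
    (hz : (Algebra.TensorProduct.includeLeftRingHom : S →+* S ⊗[R] κ) z = 0) :
    z ∈ Ideal.map (algebraMap R S) (RingHom.ker (algebraMap R κ)) := by
  let m : Ideal R := RingHom.ker (algebraMap R κ)
  let eκ : (R ⧸ m) ≃ₐ[R] κ :=
    Ideal.quotientKerAlgEquivOfSurjective (f := Algebra.ofId R κ) hsurj
  let Φ : (S ⧸ m.map (algebraMap R S)) ≃ₐ[S] S ⊗[R] κ :=
    (Algebra.TensorProduct.quotIdealMapEquivTensorQuot S m).trans
      (Algebra.TensorProduct.congr AlgEquiv.refl eκ)
  have hΦ : Φ (Ideal.Quotient.mk _ z) = z ⊗ₜ[R] (1 : κ) := by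
    simp only [Φ, AlgEquiv.trans_apply]
    rw [Algebra.TensorProduct.quotIdealMapEquivTensorQuot_mk]
    simp
  have hz' : z ⊗ₜ[R] (1 : κ) = 0 := hz
  rw [hz'] at hΦ
  have h5 : Ideal.Quotient.mk (m.map (algebraMap R S)) z = 0 :=
    Φ.injective (by rw [hΦ, map_zero])
  exact Ideal.Quotient.eq_zero_iff_mem.mp h5

/-- Affine chart of a fibre. -/
theorem exists_chart {X Y : Scheme.{u}} (f : X ⟶ Y) {V : Y.Opens}
    (hV : IsAffineOpen V) {U : X.Opens} (hU : IsAffineOpen U) (e : U ≤ f ⁻¹ᵁ V) (y : Y)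
    (hy : y ∈ V) :
    letI := (f.appLE V U e).hom.toAlgebra
    letI := (Y.evaluation V y hy).hom.toAlgebra
    ∃ j : Spec (.of (Γ(X, U) ⊗[Γ(Y, V)] (Y.residueField y))) ⟶
        pullback f (Y.fromSpecResidueField y),
      IsOpenImmersion j ∧
      j ≫ pullback.fst f (Y.fromSpecResidueField y) = Spec.map (CommRingCat.ofHom
        (Algebra.TensorProduct.includeLeftRingHom :
          Γ(X, U) →+* Γ(X, U) ⊗[Γ(Y, V)] (Y.residueField y))) ≫ hU.fromSpec ∧
      Set.range j = (pullback.fst f (Y.fromSpecResidueField y)) ⁻¹' U := by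
  letI := (f.appLE V U e).hom.toAlgebra
  letI := (Y.evaluation V y hy).hom.toAlgebra
  have e₁ : Spec.map (CommRingCat.ofHom (algebraMap Γ(Y, V) Γ(X, U))) ≫ hV.fromSpec =
      hU.fromSpec ≫ f := IsAffineOpen.SpecMap_appLE_fromSpec f hV hU e
  have e₂ : Spec.map (CommRingCat.ofHom (algebraMap Γ(Y, V) (Y.residueField y))) ≫ hV.fromSpec =
      𝟙 _ ≫ Y.fromSpecResidueField y := by
    rw [Category.id_comp]
    show Spec.map (Y.evaluation V y hy) ≫ hV.fromSpec = _
    rw [Scheme.evaluation, Spec.map_comp, Category.assoc, Scheme.fromSpecResidueField,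
      ← hV.fromSpecStalk_eq_fromSpecStalk hy, IsAffineOpen.fromSpecStalk]
  let jm := pullback.map (Spec.map (CommRingCat.ofHom (algebraMap Γ(Y, V) Γ(X, U))))
    (Spec.map (CommRingCat.ofHom (algebraMap Γ(Y, V) (Y.residueField y)))) f
    (Y.fromSpecResidueField y) hU.fromSpec (𝟙 _) hV.fromSpec e₁ e₂
  refine ⟨(pullbackSpecIso Γ(Y, V) Γ(X, U) (Y.residueField y)).inv ≫ jm, inferInstance, ?_, ?_⟩
  · dsimp only [jm]
    rw [Category.assoc, pullback.lift_fst, ← Category.assoc, pullbackSpecIso_inv_fst]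
  · have h1 : Set.range ((pullbackSpecIso Γ(Y, V) Γ(X, U) (Y.residueField y)).inv ≫ jm) =
        Set.range jm := by
      rw [Scheme.Hom.comp_base, TopCat.coe_comp, Set.range_comp]
      have : Function.Surjective (pullbackSpecIso Γ(Y, V) Γ(X, U) (Y.residueField y)).inv :=
        (pullbackSpecIso Γ(Y, V) Γ(X, U) (Y.residueField y)).symm.hom.surjective
      rw [this.range_eq, Set.image_univ]
    rw [h1, Scheme.Pullback.range_map]
    ext z
    simp only [Set.mem_inter_iff, Set.mem_preimage, hU.range_fromSpec]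
    constructor
    · rintro ⟨h, -⟩; exact h
    · intro h
      refine ⟨h, ?_⟩
      simp

theorem exists_mul_mem_of_isNilpotent {X Y : Scheme.{u}} (f : X ⟶ Y) (x : X)
    {V : Y.Opens} (hV : IsAffineOpen V) {U : X.Opens} (hU : IsAffineOpen U) (e : U ≤ f ⁻¹ᵁ V)
    (hxU : x ∈ U)
    (hsurj : Function.Surjective (Y.evaluation V (f x) (e hxU)).hom)
    (hred : _root_.IsReduced ((f.fiber (f x)).presheaf.stalk (f.asFiber x)))
    (s : Γ(X, U)) (hs : IsNilpotent s) :
    ∃ t : Γ(X, U), t ∉ (hU.primeIdealOf ⟨x, hxU⟩).asIdeal ∧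
      t * s ∈ Ideal.map (f.appLE V U e).hom (RingHom.ker (Y.evaluation V (f x) (e hxU)).hom) := by
  letI := (f.appLE V U e).hom.toAlgebra
  letI := (Y.evaluation V (f x) (e hxU)).hom.toAlgebra
  obtain ⟨j, hjo, hjfst, hjrange⟩ := exists_chart f hV hU e (f x) (e hxU)
  let C := Γ(X, U) ⊗[Γ(Y, V)] (Y.residueField (f x))
  let incl : Γ(X, U) →+* C := Algebra.TensorProduct.includeLeftRingHom
  have hx' : f.asFiber x ∈ Set.range j := by
    rw [hjrange]
    show f.fiberι _ (f.asFiber x) ∈ U
    rw [Scheme.Hom.fiberι_asFiber]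
    exact hxU
  obtain ⟨p, hp⟩ := hx'
  have hq : PrimeSpectrum.comap incl p = hU.primeIdealOf ⟨x, hxU⟩ := by
    have h1 := congr($hjfst p)
    rw [Scheme.Hom.comp_apply, Scheme.Hom.comp_apply, hp] at h1
    have h2 : pullback.fst f (Y.fromSpecResidueField (f x)) (f.asFiber x) = x :=
      f.fiberι_asFiber x
    rw [h2] at h1
    have h3 : hU.fromSpec (PrimeSpectrum.comap incl p) ∈ U := fromSpec_mem hU _
    have h4 := primeIdealOf_fromSpec hU (PrimeSpectrum.comap incl p) h3
    rw [← h4]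
    congr 1
    exact Subtype.ext h1.symm
  have hredp : _root_.IsReduced ((Spec (.of C)).presheaf.stalk p) := by
    have hred' : _root_.IsReduced
        ((pullback f (Y.fromSpecResidueField (f x))).presheaf.stalk (j p)) := by
      rw [hp]; exact hred
    exact isReduced_of_injective (inv (j.stalkMap p)).hom
      ((ConcreteCategory.bijective_of_isIso (inv (j.stalkMap p))).1)
  -- nilpotent `incl s` dies in the stalk
  have hc : IsNilpotent (incl s) := hs.map incl
  let p' : PrimeSpectrum C := p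
  have h0 : algebraMap C ((Spec.structureSheaf C).presheaf.stalk p') (incl s) = 0 := by
    have hnil : IsNilpotent (algebraMap C ((Spec.structureSheaf C).presheaf.stalk p') (incl s)) :=
      hc.map _
    haveI : _root_.IsReduced ((Spec.structureSheaf C).presheaf.stalk p') := hredp
    exact hnil.eq_zero
  rw [IsLocalization.map_eq_zero_iff p'.asIdeal.primeCompl] at h0
  obtain ⟨⟨t', ht'⟩, ht's⟩ := h0
  -- `incl` is surjective
  have hincl : Function.Surjective incl :=
    Algebra.TensorProduct.includeLeft_surjective (R := Γ(Y, V)) (T := Y.residueField (f x))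
      Γ(X, U) Γ(X, U) hsurj
  obtain ⟨t, rfl⟩ := hincl t'
  refine ⟨t, ?_, ?_⟩
  · rw [← hq]
    exact ht'
  · -- kernel of `incl`
    have hker : incl (t * s) = 0 := by rw [map_mul]; exact ht's
    exact mem_map_ker_of_includeLeft_eq_zero hsurj (t * s) hker

end Groth.Agent.Lib.Helper24.FlatDvr
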