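import Mathlib

/-!
# A non-zero-divisor criterion (helper24)

`B` Noetherian local, `ϖ ∈ 𝔪_B`, nilpotents of `B` lie in `ϖB`, `ϖ` in no minimal prime.
Then `ϖ` is a non-zero-divisor.
-/

set_option autoImplicit false
universe u

namespace Groth.Agent.Lib.Helper24.FlatDvr

theorem eq_zero_of_mul_eq_zero {B : Type*} [CommRing B] [IsNoetherianRing B] [IsLocalRing B]
    (ϖ : B) (hϖ : ϖ ∈ IsLocalRing.maximalIdeal B)
    (hnil : ∀ d : B, IsNilpotent d → d ∈ Ideal.span {ϖ})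
    (hmin : ∀ P ∈ minimalPrimes B, ϖ ∉ P) :
    ∀ (n : ℕ) (d : B), ϖ ^ n * d = 0 → d = 0 := by
  -- (a) `a * ϖ` nilpotent implies `a` nilpotent
  have ha : ∀ a : B, IsNilpotent (ϖ * a) → IsNilpotent a := by
    intro a h
    rw [← mem_nilradical, nilradical, ← Ideal.sInf_minimalPrimes, Ideal.mem_sInf] at h ⊢
    intro P hP
    have : P.IsPrime := hP.1.1
    rcases Ideal.IsPrime.mem_or_mem ‹_› (h hP) with h1 | h1
    · exact absurd h1 (hmin P hP)
    · exact h1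
  -- the ϖ-power torsion ideal
  let T : Ideal B := Submodule.torsion' B B (Submonoid.powers ϖ)
  have hT : ∀ d : B, d ∈ T ↔ ∃ n : ℕ, ϖ ^ n * d = 0 := by
    intro d
    constructor
    · rintro ⟨⟨_, n, rfl⟩, h⟩
      exact ⟨n, h⟩
    · rintro ⟨n, h⟩
      exact ⟨⟨ϖ ^ n, n, rfl⟩, h⟩
  have hTle : T ≤ Ideal.span {ϖ} • T := by
    intro d hd
    obtain ⟨n, hn⟩ := (hT d).1 hd
    have h1 : IsNilpotent (ϖ * d) := by
      refine ⟨n + 1, ?_⟩
      rw [mul_pow, pow_succ ϖ, pow_succ d]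
      calc ϖ ^ n * ϖ * (d ^ n * d) = (ϖ ^ n * d) * (ϖ * d ^ n) := by ring
        _ = 0 := by rw [hn, zero_mul]
    obtain ⟨d', rfl⟩ := Ideal.mem_span_singleton'.mp (hnil d (ha d h1))
    have hd' : d' ∈ T := by
      rw [hT]
      refine ⟨n + 1, ?_⟩
      rw [pow_succ, mul_assoc, mul_comm ϖ d']
      exact hn
    rw [mul_comm]
    exact Submodule.smul_mem_smul (Ideal.mem_span_singleton_self ϖ) hd'
  have hT0 : T = ⊥ := by
    refine Submodule.eq_bot_of_le_smul_of_le_jacobson_bot (Ideal.span {ϖ}) T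
      (IsNoetherian.noetherian T) hTle ?_
    rw [IsLocalRing.jacobson_eq_maximalIdeal ⊥ bot_ne_top, Ideal.span_le]
    simpa using hϖ
  intro n d hd
  have : d ∈ T := (hT d).2 ⟨n, hd⟩
  rw [hT0] at this
  exact this

end Groth.Agent.Lib.Helper24.FlatDvr
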