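import Mathlib
import Groth.Agent.Lib.Helper24.FlatDvr.Alg
import Groth.Agent.Lib.Helper24.FlatDvr.Fib
import Groth.Agent.Lib.Helper24.FlatDed.Stalk

/-!
# Flatness at a point of the special fibre over a DVR (helper24)
-/

set_option autoImplicit false
universe u
open CategoryTheory CategoryTheory.Limits AlgebraicGeometry Opposite TopologicalSpace

namespace Groth.Agent.Lib.Helper24.FlatDvr

open Groth.Agent.Lib.Helper24.RedFib Groth.Agent.Lib.Helper24.Unibranch
  Groth.Agent.Lib.Helper24.FlatDed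

/-- Flatness of a stalk map over a DVR from regularity of the uniformizer. -/
theorem flat_stalkMap_of_nzd {A : Type u} [CommRing A] [IsDomain A] [IsDiscreteValuationRing A]
    {X : Scheme.{u}} (f : X ⟶ Spec (.of A)) (x : X) (ϖ : A) (hϖ : Irreducible ϖ)
    (hnzd : ∀ (n : ℕ) (b : X.presheaf.stalk x),
      ((f.stalkMap x).hom (((Spec (.of A)).presheaf.germ ⊤ (f x) trivial).hom
        ((Scheme.ΓSpecIso (.of A)).inv.hom ϖ))) ^ n * b = 0 → b = 0) :
    (f.stalkMap x).hom.Flat := by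
  classical
  let Y : Scheme.{u} := Spec (.of A)
  have hV : IsAffineOpen (⊤ : Y.Opens) := isAffineOpen_top Y
  let R := Γ(Y, ⊤)
  let eA : A ≃+* R := (Scheme.ΓSpecIso (.of A)).symm.commRingCatIsoToRingEquiv
  have hfx : f x ∈ (⊤ : Y.Opens) := trivial
  let B := X.presheaf.stalk x
  let A' := Y.presheaf.stalk (f x)
  letI algA'B : Algebra A' B := (f.stalkMap x).hom.toAlgebra
  show Module.Flat A' B
  letI algRA' : Algebra R A' := Y.presheaf.algebra_section_stalk ⟨f x, hfx⟩
  haveI locA' : IsLocalization.AtPrime A' (hV.primeIdealOf ⟨f x, hfx⟩).asIdeal :=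
    hV.isLocalization_stalk ⟨f x, hfx⟩
  letI algRB : Algebra R B := ((algebraMap A' B).comp (algebraMap R A')).toAlgebra
  haveI : IsScalarTower R A' B := IsScalarTower.of_algebraMap_eq' rfl
  rw [Module.flat_iff_of_isLocalization A' (hV.primeIdealOf ⟨f x, hfx⟩).asIdeal.primeCompl]
  haveI : IsDomain R := eA.symm.toMulEquiv.isDomain
  haveI : IsPrincipalIdealRing R :=
    IsPrincipalIdealRing.of_surjective eA.toRingHom eA.surjective
  rw [Module.Flat.flat_iff_torsion_eq_bot_of_isBezout, eq_bot_iff]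
  intro b hb
  rw [Submodule.mem_torsion_iff] at hb
  obtain ⟨⟨r, hr⟩, h0⟩ := hb
  have hr0 : r ≠ 0 := nonZeroDivisors.ne_zero hr
  have ha0 : eA.symm r ≠ 0 := by simpa using hr0
  obtain ⟨n, u, hu⟩ := IsDiscreteValuationRing.eq_unit_mul_pow_irreducible ha0 hϖ
  have hr_eq : r = eA (u : A) * (eA ϖ) ^ n := by
    rw [← map_pow, ← map_mul, ← hu, RingEquiv.apply_symm_apply]
  have h0' : algebraMap R B r * b = 0 := h0
  rw [hr_eq, map_mul, map_pow] at h0'
  have hunit : IsUnit (algebraMap R B (eA (u : A))) :=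
    (u.isUnit.map eA).map (algebraMap R B)
  rw [mul_assoc] at h0'
  have h6 := hunit.mul_right_eq_zero.mp h0'
  rw [Submodule.mem_bot]
  exact hnzd n b h6

theorem flat_stalkMap_dvr {A : Type u} [CommRing A] [IsDomain A] [IsDiscreteValuationRing A]
    {X : Scheme.{u}} [IsLocallyNoetherian X] (f : X ⟶ Spec (.of A)) (x : X)
    (hx : f x = IsLocalRing.closedPoint A)
    (hred : _root_.IsReduced ((f.fiber (f x)).presheaf.stalk (f.asFiber x)))
    (hmax : ∀ ξ : X, IsMaxPt ξ → ξ ⤳ x → f ξ ≠ IsLocalRing.closedPoint A) :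
    (f.stalkMap x).hom.Flat := by
  classical
  let Y : Scheme.{u} := Spec (.of A)
  have hV : IsAffineOpen (⊤ : Y.Opens) := isAffineOpen_top Y
  let R := Γ(Y, ⊤)
  let eA : A ≃+* R := (Scheme.ΓSpecIso (.of A)).symm.commRingCatIsoToRingEquiv
  obtain ⟨U, hU, hxU, -⟩ := Opens.isBasis_iff_nbhd.mp X.isBasis_affineOpens
    (show x ∈ (⊤ : X.Opens) from trivial)
  have e : U ≤ f ⁻¹ᵁ (⊤ : Y.Opens) := le_top
  obtain ⟨ϖ, hϖ⟩ := IsDiscreteValuationRing.exists_irreducible A
  have hmA : IsLocalRing.maximalIdeal A = Ideal.span {ϖ} := hϖ.maximalIdeal_eq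
  have hfx : f x ∈ (⊤ : Y.Opens) := trivial
  -- kernel of the evaluation
  have hev : ∀ r : R, (Y.evaluation ⊤ (f x) hfx).hom r = 0 ↔
      eA.symm r ∈ IsLocalRing.maximalIdeal A := by
    intro r
    rw [Y.evaluation_eq_zero_iff_notMem_basicOpen (f x) hfx r]
    have h1 : Y.basicOpen r = PrimeSpectrum.basicOpen (eA.symm r) := by
      have := basicOpen_eq_of_affine (R := .of A) (eA.symm r)
      rw [← this]
      congr 1
      exact (eA.apply_symm_apply r).symm
    rw [h1, hx]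
    show ¬ (eA.symm r ∉ (IsLocalRing.closedPoint A).asIdeal) ↔ _
    rw [not_not]
    rfl
  have hkerle : RingHom.ker (Y.evaluation ⊤ (f x) hfx).hom ≤ Ideal.span {eA ϖ} := by
    intro r hr
    rw [RingHom.mem_ker, hev, hmA, Ideal.mem_span_singleton'] at hr
    obtain ⟨a, ha⟩ := hr
    rw [Ideal.mem_span_singleton']
    refine ⟨eA a, ?_⟩
    rw [← map_mul, ha, RingEquiv.apply_symm_apply]
  have hsurj : Function.Surjective (Y.evaluation ⊤ (f x) hfx).hom := by
    intro l
    obtain ⟨s, t, ht, rfl⟩ :=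
      Groth.Agent.Lib.lead.ResTrdegBridge.evaluation_frac_surj hV (f x) hfx l
    have htu : IsUnit t := by
      have h1 : eA.symm t ∉ IsLocalRing.maximalIdeal A := fun h => ht ((hev t).2 h)
      have h2 : IsUnit (eA.symm t) := by
        by_contra h3
        exact h1 ((IsLocalRing.mem_maximalIdeal _).2 h3)
      have := h2.map eA
      rwa [RingEquiv.apply_symm_apply] at this
    obtain ⟨t', rfl⟩ := htu
    refine ⟨s * ↑t'⁻¹, ?_⟩
    rw [map_mul, eq_div_iff ht, mul_assoc, ← map_mul]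
    simp
  -- the stalk
  let S := Γ(X, U)
  let B := X.presheaf.stalk x
  let φ : R →+* S := (f.appLE ⊤ U e).hom
  letI algSB : Algebra S B := X.presheaf.algebra_section_stalk ⟨x, hxU⟩
  haveI locB : IsLocalization.AtPrime B (hU.primeIdealOf ⟨x, hxU⟩).asIdeal :=
    hU.isLocalization_stalk ⟨x, hxU⟩
  let q := (hU.primeIdealOf ⟨x, hxU⟩).asIdeal
  let ϖS : S := φ (eA ϖ)
  let ϖB : B := algebraMap S B ϖS
  have hϖSq : ϖS ∈ q := by
    have hco := IsAffineOpen.comap_primeIdealOf_appLE (f := f) (x := x) ⊤ hV U hU e hxU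
    have h1 : eA ϖ ∈ (hV.primeIdealOf ⟨f x, hfx⟩).asIdeal := by
      rw [← Groth.Agent.Lib.lead.ResTrdegBridge.ker_evaluation hV (f x) hfx, RingHom.mem_ker, hev,
        RingEquiv.symm_apply_apply, hmA]
      exact Ideal.mem_span_singleton_self ϖ
    rw [← hco] at h1
    exact h1
  have hϖBm : ϖB ∈ IsLocalRing.maximalIdeal B :=
    (IsLocalization.AtPrime.to_map_mem_maximal_iff B q ϖS).2 hϖSq
  -- (2) nilpotents of `B` lie in `ϖB`
  have hnil : ∀ d : B, IsNilpotent d → d ∈ Ideal.span {ϖB} := by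
    intro d hd
    obtain ⟨s, t, rfl⟩ := IsLocalization.exists_mk'_eq q.primeCompl d
    have hs : IsNilpotent (algebraMap S B s) := by
      have : algebraMap S B s = IsLocalization.mk' B s t * algebraMap S B t := by
        rw [IsLocalization.mk'_spec]
      rw [this]
      exact (Commute.all _ _).isNilpotent_mul_right hd
    obtain ⟨n, hn⟩ := hs
    rw [← map_pow, IsLocalization.map_eq_zero_iff q.primeCompl] at hn
    obtain ⟨t₁, ht₁⟩ := hn
    have hs₁ : IsNilpotent ((t₁ : S) * s) := by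
      refine ⟨n + 1, ?_⟩
      have : ((t₁ : S) * s) ^ (n + 1) = (t₁ : S) ^ n * s * ((t₁ : S) * s ^ n) := by ring
      rw [this, ht₁, mul_zero]
    obtain ⟨t₂, ht₂, hmem⟩ :=
      exists_mul_mem_of_isNilpotent f x hV hU e hxU hsurj hred _ hs₁
    have hmem' : t₂ * ((t₁ : S) * s) ∈ Ideal.span {ϖS} := by
      have h1 := Ideal.map_mono (f := φ) hkerle hmem
      rwa [Ideal.map_span, Set.image_singleton] at h1
    obtain ⟨s', hs'⟩ := Ideal.mem_span_singleton'.mp hmem'
    have hu₁ : IsUnit (algebraMap S B t₁) := IsLocalization.map_units B t₁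
    have hu₂ : IsUnit (algebraMap S B t₂) :=
      IsLocalization.map_units B (⟨t₂, ht₂⟩ : q.primeCompl)
    have hu : IsUnit (algebraMap S B t) := IsLocalization.map_units B t
    have hd_eq : IsLocalization.mk' B s t * (algebraMap S B t * algebraMap S B t₁ *
        algebraMap S B t₂) = algebraMap S B s' * ϖB := by
      rw [← mul_assoc, ← mul_assoc, IsLocalization.mk'_spec, ← map_mul, ← map_mul, ← map_mul, hs']
      congr 1
      ring
    obtain ⟨v, hv⟩ := (hu.mul hu₁).mul hu₂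
    rw [Ideal.mem_span_singleton']
    refine ⟨algebraMap S B s' * ↑v⁻¹, ?_⟩
    rw [mul_assoc, mul_comm (↑v⁻¹ : B), ← mul_assoc, ← hd_eq, ← hv, mul_assoc, Units.mul_inv,
      mul_one]
  -- (3) `ϖB` lies in no minimal prime
  have hmin : ∀ P ∈ minimalPrimes B, ϖB ∉ P := by
    intro P hP hϖP
    have hPprime : P.IsPrime := hP.1.1
    let P' : Spec (X.presheaf.stalk x) := ⟨P, hPprime⟩
    have hξmax : IsMaxPt (X.fromSpecStalk x P') := isMaxPt_fromSpecStalk P hP
    have hξsp : X.fromSpecStalk x P' ⤳ x := specializes_fromSpecStalk P'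
    apply hmax _ hξmax hξsp
    -- compute `f ξ`
    have h1 : X.fromSpecStalk x = Spec.map (X.presheaf.germ U x hxU) ≫ hU.fromSpec := by
      rw [← hU.fromSpecStalk_eq_fromSpecStalk hxU]
      rfl
    have h2 : hU.fromSpec ≫ f = Spec.map (f.appLE ⊤ U e) ≫ hV.fromSpec :=
      (IsAffineOpen.SpecMap_appLE_fromSpec f hV hU e).symm
    have h3 : hV.fromSpec = Spec.map (Scheme.ΓSpecIso (.of A)).inv := by
      rw [IsAffineOpen.fromSpec_top, Scheme.isoSpec_Spec_inv]
    have h4 : X.fromSpecStalk x ≫ f = Spec.map ((Scheme.ΓSpecIso (.of A)).inv ≫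
        f.appLE ⊤ U e ≫ X.presheaf.germ U x hxU) := by
      rw [h1, Category.assoc, h2, h3, Spec.map_comp, Spec.map_comp, Category.assoc]
    have h5 : f (X.fromSpecStalk x P') = Spec.map ((Scheme.ΓSpecIso (.of A)).inv ≫
        f.appLE ⊤ U e ≫ X.presheaf.germ U x hxU) P' := by
      rw [← h4, Scheme.Hom.comp_apply]
    rw [h5]
    apply PrimeSpectrum.ext
    have hmaxI : (IsLocalRing.closedPoint A).asIdeal = IsLocalRing.maximalIdeal A := rfl
    rw [hmaxI]
    refine ((IsLocalRing.maximalIdeal.isMaximal A).eq_of_le ?_ ?_).symm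
    · exact (PrimeSpectrum.isPrime _).ne_top
    · rw [hmA, Ideal.span_le, Set.singleton_subset_iff]
      exact hϖP
  have hnzd := eq_zero_of_mul_eq_zero ϖB hϖBm hnil hmin
  -- (4) flatness
  refine flat_stalkMap_of_nzd f x ϖ hϖ ?_
  intro n b hb
  refine hnzd n b ?_
  have hcompat : (f.stalkMap x).hom ((Y.presheaf.germ ⊤ (f x) hfx).hom (eA ϖ)) = ϖB := by
    show (f.stalkMap x).hom ((Y.presheaf.germ ⊤ (f x) hfx).hom (eA ϖ)) =
      (X.presheaf.germ U x hxU).hom ((f.appLE ⊤ U e).hom (eA ϖ))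
    have h1 := Scheme.Hom.germ_stalkMap_apply f ⊤ x hfx (eA ϖ)
    rw [Scheme.Hom.appLE, CommRingCat.comp_apply]
    erw [h1]
    exact (TopCat.Presheaf.germ_res_apply X.presheaf (homOfLE e) x hxU _).symm
  rw [← hcompat]
  exact hb

end Groth.Agent.Lib.Helper24.FlatDvr
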