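import Mathlib
import Groth.Agent.Lib.Helper24.Unibranch.Top

/-!
# A maximal point of a locally Noetherian scheme has a neighbourhood inside its closure
-/

set_option autoImplicit false
universe u
open AlgebraicGeometry CategoryTheory TopologicalSpace Topology

namespace Groth.Agent.Lib.Helper24.FlatDvr

open Groth.Agent.Lib.Helper24.Unibranch

theorem closure_mem_nhds_of_isMaxPt (X : Scheme.{u}) [IsLocallyNoetherian X] {ξ : X}
    (h : IsMaxPt ξ) : closure {ξ} ∈ 𝓝 ξ := by
  obtain ⟨_, ⟨W, hW, rfl⟩, hξW, -⟩ :=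
    X.isBasis_affineOpens.exists_subset_of_mem_open (Set.mem_univ ξ) isOpen_univ
  haveI : IsNoetherianRing Γ(X, W) := IsLocallyNoetherian.component_noetherian ⟨W, hW⟩
  haveI : NoetherianSpace ↥(W : Set X) := noetherianSpace_of_isAffineOpen W hW
  haveI : QuasiSober ↥(W : Set X) := W.isOpen.isOpenEmbedding_subtypeVal.quasiSober
  let ξW : ↥(W : Set X) := ⟨ξ, hξW⟩
  have hmaxW : IsMaxPt ξW := by
    intro ζ hζ
    apply Subtype.ext
    exact h ζ.1 (hζ.map continuous_subtype_val)
  have hcomp : closure {ξW} ∈ irreducibleComponents ↥(W : Set X) :=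
    hmaxW.closure_mem_irreducibleComponents
  let T : Set ↥(W : Set X) := ⋃₀ (irreducibleComponents ↥(W : Set X) \ {closure {ξW}})
  have hTclosed : IsClosed T := by
    show IsClosed (⋃₀ (irreducibleComponents ↥(W : Set X) \ {closure {ξW}}))
    rw [Set.sUnion_eq_biUnion]
    apply Set.Finite.isClosed_biUnion
    · exact (NoetherianSpace.finite_irreducibleComponents).subset Set.diff_subset
    · intro Z hZ
      exact isClosed_of_mem_irreducibleComponents Z hZ.1
  have hξT : ξW ∉ T := by
    rintro ⟨Z, ⟨hZ, hZne⟩, hξZ⟩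
    apply hZne
    have hZc : IsClosed Z := isClosed_of_mem_irreducibleComponents Z hZ
    obtain ⟨κ, hκ⟩ := QuasiSober.sober hZ.1 hZc
    have : κ = ξW := hmaxW κ (hκ.specializes hξZ)
    rw [Set.mem_singleton_iff, ← hκ.def, this]
  have hsub : Tᶜ ⊆ closure {ξW} := by
    intro w hw
    by_contra hcon
    apply hw
    refine ⟨irreducibleComponent w, ⟨irreducibleComponent_mem_irreducibleComponents w, ?_⟩,
      mem_irreducibleComponent⟩
    intro heq
    rw [Set.mem_singleton_iff] at heq
    exact hcon (heq ▸ mem_irreducibleComponent)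
  have hopen : IsOpen (Subtype.val '' Tᶜ : Set X) :=
    W.isOpen.isOpenEmbedding_subtypeVal.isOpenMap _ hTclosed.isOpen_compl
  refine Filter.mem_of_superset (hopen.mem_nhds ⟨ξW, hξT, rfl⟩) ?_
  rintro _ ⟨w, hw, rfl⟩
  have := hsub hw
  rw [← specializes_iff_mem_closure] at this ⊢
  exact this.map continuous_subtype_val

end Groth.Agent.Lib.Helper24.FlatDvr
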