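import Mathlib
import Groth.Prelude.Def_EGA43
import Groth.Agent.Lib.Helper24.FlatDvr.Core
import Groth.Agent.Lib.Helper24.FlatDvr.Top

/-!
# S4948: flatness over a DVR at a point of the special fibre (helper24)
-/

set_option autoImplicit false
universe u
open CategoryTheory CategoryTheory.Limits AlgebraicGeometry Opposite TopologicalSpace Topology

namespace Groth.Agent.Lib.Helper24.FlatDvr

open Groth.Agent.Lib.Helper24.Unibranch

/-- In the spectrum of a DVR the closed point is not open. -/
theorem not_singleton_closedPoint_mem_nhds (A : Type u) [CommRing A] [IsDomain A]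
    [IsDiscreteValuationRing A] :
    ({IsLocalRing.closedPoint A} : Set (PrimeSpectrum A)) ∉ 𝓝 (IsLocalRing.closedPoint A) := by
  intro hn
  let η : PrimeSpectrum A := ⟨⊥, Ideal.isPrime_bot⟩
  have hsp : η ⤳ IsLocalRing.closedPoint A :=
    (PrimeSpectrum.le_iff_specializes η (IsLocalRing.closedPoint A)).mp bot_le
  have h1 : ({IsLocalRing.closedPoint A} : Set (PrimeSpectrum A)) ∈ 𝓝 η := hsp hn
  have h2' : η ∈ ({IsLocalRing.closedPoint A} : Set (PrimeSpectrum A)) := mem_of_mem_nhds h1
  have h2 : η = IsLocalRing.closedPoint A := h2'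
  have h3 : IsLocalRing.maximalIdeal A = ⊥ := (congrArg PrimeSpectrum.asIdeal h2).symm
  exact IsDiscreteValuationRing.not_isField A (IsLocalRing.isField_iff_maximalIdeal_eq.mpr h3)

theorem closedPoint_of_specializes (A : Type u) [CommRing A] [IsLocalRing A]
    {y : PrimeSpectrum A} (h : IsLocalRing.closedPoint A ⤳ y) : y = IsLocalRing.closedPoint A := by
  have hcl : IsClosed ({IsLocalRing.closedPoint A} : Set (PrimeSpectrum A)) :=
    (PrimeSpectrum.isClosed_singleton_iff_isMaximal _).mpr (IsLocalRing.maximalIdeal.isMaximal A)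
  exact h.mem_closed hcl rfl

theorem main4948 {A : Type u} [CommRing A] [IsDomain A]
    [IsDiscreteValuationRing A] {X : Scheme.{u}} (f : X ⟶ Spec (CommRingCat.of A))
    [LocallyOfFiniteType f] (x : X)
    (hx : f.base x = IsLocalRing.closedPoint A)
    (h : ∀ z : ↥(f.fiber (f.base x)), f.asFiber x ∈ closure {z} →
      (∀ z' : ↥(f.fiber (f.base x)), z ∈ closure {z'} → z' = z) →
        EGA43.IsOpenAt f.base ((f.fiberι (f.base x)).base z))
    (hred : _root_.IsReduced ((f.fiber (f.base x)).presheaf.stalk (f.asFiber x))) :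
    (f.stalkMap x).hom.Flat := by
  haveI : IsLocallyNoetherian X := LocallyOfFiniteType.isLocallyNoetherian f
  refine flat_stalkMap_dvr f x hx hred ?_
  intro ξ hξmax hξx hfξ
  have hξfib : ξ ∈ f ⁻¹' {f x} := by
    rw [Set.mem_preimage, Set.mem_singleton_iff, hfξ]
    exact hx.symm
  let z : f.fiber (f x) := (f.fiberHomeo (f x)).symm ⟨ξ, hξfib⟩
  have hzι : f.fiberι (f x) z = ξ := f.fiberι_fiberHomeo_symm _ _
  have hemb := (f.fiberι (f x)).isEmbedding
  have h1 : f.asFiber x ∈ closure {z} := by
    rw [← specializes_iff_mem_closure, ← hemb.isInducing.specializes_iff, hzι, f.fiberι_asFiber]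
    exact hξx
  have h2 : ∀ z' : ↥(f.fiber (f x)), z ∈ closure {z'} → z' = z := by
    intro z' hz'
    rw [← specializes_iff_mem_closure, ← hemb.isInducing.specializes_iff, hzι] at hz'
    exact hemb.injective ((hξmax _ hz').trans hzι.symm)
  have hopen : EGA43.IsOpenAt f.base (f.fiberι (f x) z) := h z h1 h2
  rw [hzι] at hopen
  have hnhds := hopen _ (closure_mem_nhds_of_isMaxPt X hξmax)
  have hsub : f.base '' closure {ξ} ⊆ {IsLocalRing.closedPoint A} := by
    rintro _ ⟨w, hw, rfl⟩
    have h3 : ξ ⤳ w := specializes_iff_mem_closure.mpr hw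
    have h4 : f ξ ⤳ f w := h3.map f.continuous
    rw [hfξ] at h4
    exact closedPoint_of_specializes A h4
  have hfξ' : f.base ξ = IsLocalRing.closedPoint A := hfξ
  rw [hfξ'] at hnhds
  exact not_singleton_closedPoint_mem_nhds A (Filter.mem_of_superset hnhds hsub)

end Groth.Agent.Lib.Helper24.FlatDvr
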