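import Mathlib
import Groth.Agent.Lib.Helper24.FlatDvr.Main4948

/-!
# S10880: flat over a DVR if the special fibre is reduced and the generic fibre dense (helper24)
-/

set_option autoImplicit false
universe u
open CategoryTheory CategoryTheory.Limits AlgebraicGeometry Opposite TopologicalSpace Topology

namespace Groth.Agent.Lib.Helper24.FlatDvr

open Groth.Agent.Lib.Helper24.Unibranch

theorem main10880 (R : Type u) [CommRing R] [IsDomain R]
    [IsDiscreteValuationRing R] {X : Scheme.{u}} (f : X ⟶ Spec (CommRingCat.of R))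
    [IsLocallyNoetherian X]
    (hred : AlgebraicGeometry.IsReduced (f.fiber (IsLocalRing.closedPoint R)))
    (hdense : Dense (f.base ⁻¹' {genericPoint (Spec (CommRingCat.of R))})) : Flat f := by
  rw [Flat.iff_flat_stalkMap]
  intro x
  have hgen : genericPoint (Spec (CommRingCat.of R)) = (⟨⊥, Ideal.isPrime_bot⟩ : PrimeSpectrum R) :=
    genericPoint_eq_bot_of_affine (.of R)
  have hne : (⟨⊥, Ideal.isPrime_bot⟩ : PrimeSpectrum R) ≠ IsLocalRing.closedPoint R := by
    intro h
    have h3 : IsLocalRing.maximalIdeal R = ⊥ := (congrArg PrimeSpectrum.asIdeal h).symm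
    exact IsDiscreteValuationRing.not_isField R (IsLocalRing.isField_iff_maximalIdeal_eq.mpr h3)
  by_cases hx : f x = IsLocalRing.closedPoint R
  · haveI : AlgebraicGeometry.IsReduced (f.fiber (f x)) := by rw [hx]; exact hred
    refine flat_stalkMap_dvr f x hx inferInstance ?_
    intro ξ hξmax hξx hfξ
    have hn := closure_mem_nhds_of_isMaxPt X hξmax
    rw [mem_nhds_iff] at hn
    obtain ⟨O, hOsub, hOopen, hξO⟩ := hn
    obtain ⟨w, hwO, hw⟩ := hdense.inter_open_nonempty O hOopen ⟨ξ, hξO⟩
    have h3 : ξ ⤳ w := specializes_iff_mem_closure.mpr (hOsub hwO)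
    have h4 : f ξ ⤳ f w := h3.map f.continuous
    rw [hfξ] at h4
    have h5 := closedPoint_of_specializes R h4
    have hw' : f w = genericPoint (Spec (CommRingCat.of R)) := hw
    rw [hw', hgen] at h5
    exact hne h5
  · obtain ⟨ϖ, hϖ⟩ := IsDiscreteValuationRing.exists_irreducible R
    refine flat_stalkMap_of_nzd f x ϖ hϖ ?_
    intro n b hb
    -- the image of `ϖ` in the stalk at `f x` is a unit
    have hϖx : ϖ ∉ (f x).asIdeal := by
      intro hmem
      apply hx
      apply PrimeSpectrum.ext
      show (f x).asIdeal = IsLocalRing.maximalIdeal R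
      refine ((IsLocalRing.maximalIdeal.isMaximal R).eq_of_le (f x).isPrime.ne_top ?_).symm
      rw [hϖ.maximalIdeal_eq, Ideal.span_le, Set.singleton_subset_iff]
      exact hmem
    have hmemb : f x ∈ (Spec (CommRingCat.of R)).basicOpen
        ((Scheme.ΓSpecIso (.of R)).inv.hom ϖ) := by
      rw [basicOpen_eq_of_affine]
      exact hϖx
    have hunit : IsUnit (((Spec (CommRingCat.of R)).presheaf.germ ⊤ (f x) trivial).hom
        ((Scheme.ΓSpecIso (.of R)).inv.hom ϖ)) :=
      ((Spec (CommRingCat.of R)).mem_basicOpen_top _ (f x)).mp hmemb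
    have hunit' := (hunit.map (f.stalkMap x).hom).pow n
    exact hunit'.mul_right_eq_zero.mp hb

end Groth.Agent.Lib.Helper24.FlatDvr
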